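import Mathlib
import Cfsg.Agent.Lib.Helper9.CubeUDefs

/-!
Field-theoretic input for package U3c of S2511: the minimal polynomial of a generator of the
multiplicative group of the degree `d` extension of `F` (`|F| = q²`) and its conjugate reciprocal.
-/

set_option autoImplicit false

namespace Cfsg.Agent.Lib.Helper5.U3c

open Polynomial Cfsg.Agent.S0278 Cfsg.Agent.Lib.Helper5.Wall Cfsg.Agent.Lib.Helper5.SSOrder
  Cfsg.Agent.Lib.Helper5.Pal Module

universe u

variable {F : Type u} [Field F] [Fintype F] {q : ℕ}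

omit [Fintype F] in
/-- a root of `f` gives the root `x⁻¹` of `rc f` -/
theorem aeval_inv_rc {L : Type*} [Field L] [Algebra F L] (f : F[X]) (x : L) (hx : x ≠ 0)
    (h : aeval x f = 0) : aeval x⁻¹ (rc f) = 0 := by
  rw [rc, map_mul, aeval_C]
  letI : Invertible x := invertibleOfNonzero hx
  have h1 : aeval x⁻¹ f.reverse = 0 := by
    rw [aeval_def, ← invOf_eq_inv, eval₂_reverse_eq_zero_iff, ← aeval_def]
    exact h
  rw [h1, mul_zero]

/-- a root `x` of `f` gives the root `x^{-q}` of `dag f` -/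
theorem aeval_dag (hF : Fintype.card F = q ^ 2) (p : ℕ) [Fact p.Prime] [CharP F p]
    {L : Type*} [Field L] [Algebra F L] (f : F[X]) (x : L) (hx : x ≠ 0)
    (h : aeval x f = 0) : aeval (x ^ q)⁻¹ (dag hF f) = 0 := by
  rw [dag]
  apply aeval_inv_rc _ _ (pow_ne_zero _ hx)
  rw [frobQ hF p, h, zero_pow]
  intro hq
  rw [hq] at hF
  simp at hF

theorem dag_X_pow_sub_one (hF : Fintype.card F = q ^ 2) {N : ℕ} (hN : 0 < N) :
    dag hF (X ^ N - 1 : F[X]) = X ^ N - 1 := by
  rw [dag, Polynomial.map_sub, Polynomial.map_pow, map_X, Polynomial.map_one, rc]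
  have h5 : (X ^ N - 1 : F[X]).reverse = -(X ^ N - 1) := by
    have e1 : (X ^ N - 1 : F[X]) = X ^ N + C (-1) := by rw [C_neg, C_1, sub_eq_add_neg]
    have e2 : (X ^ N : F[X]).reverse = 1 := by
      have := reverse_X_pow_mul (1 : F[X]) N
      rw [mul_one] at this
      rw [this, ← C_1, reverse_C]
    rw [e1, reverse_add_C, e2, natDegree_X_pow, C_neg, C_1]
    ring
  rw [h5, coeff_sub, coeff_X_pow, coeff_one_zero, if_neg hN.ne]
  simp


/-- every `F`-algebra endomorphism of a finite extension field is a power of the Frobenius -/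
theorem algHom_eq_frob {K : Type*} [Field K] [Algebra F K] [Finite K] (φ : K →ₐ[F] K) :
    ∃ i : ℕ, i < finrank F K ∧ ∀ x : K, φ x = x ^ (Fintype.card F ^ i) := by
  obtain ⟨i, hi⟩ := (FiniteField.bijective_frobeniusAlgHom_pow F K).2 φ
  refine ⟨i.1, i.2, fun x => ?_⟩
  have h := congrArg (fun ψ : K →ₐ[F] K => ψ x) hi
  simp only [AlgHom.coe_pow, FiniteField.coe_frobeniusAlgHom, pow_iterate] at h
  exact h.symm

/-- The polynomial data for the hyperbolic torus. -/
theorem exists_poly (hF : Fintype.card F = q ^ 2) (p : ℕ) [Fact p.Prime] [CharP F p] {d : ℕ}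
    (hd : 1 ≤ d) (hex : ¬ (q = 2 ∧ d = 1)) :
    ∃ (K : Type) (_ : Field K) (_ : Algebra F K) (γ : K) (m : F[X]),
      m.Monic ∧ Irreducible m ∧ m.natDegree = d ∧ m.coeff 0 ≠ 0 ∧ aeval γ m = 0 ∧ γ ≠ 0 ∧
      (∀ g : F[X], aeval γ g = 0 → m ∣ g) ∧
      (∀ j : ℕ, γ ^ j = 1 ↔ q ^ (2 * d) - 1 ∣ j) ∧ dag hF m ≠ m := by
  classical
  have hq2 : 2 ≤ q := by
    by_contra h
    have hq1 : q ≤ 1 := by omega
    have : Fintype.card F ≤ 1 := by
      rw [hF]
      calc q ^ 2 ≤ 1 ^ 2 := Nat.pow_le_pow_left hq1 2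
        _ = 1 := one_pow 2
    have h1 := Fintype.one_lt_card (α := F)
    omega
  have hnz : NeZero d := ⟨by omega⟩
  have hfr : finrank F (FiniteField.Extension F p d) = d := FiniteField.finrank_extension F p d
  have hcard : Nat.card (FiniteField.Extension F p d) = q ^ (2 * d) := by
    rw [FiniteField.natCard_extension, Nat.card_eq_fintype_card, hF, ← pow_mul]
  have : Fintype (FiniteField.Extension F p d) := Fintype.ofFinite _
  obtain ⟨γ, hγ⟩ := IsCyclic.exists_generator (α := (FiniteField.Extension F p d)ˣ)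
  have hord : orderOf γ = q ^ (2 * d) - 1 := by
    rw [orderOf_eq_card_of_forall_mem_zpowers hγ, Nat.card_units, hcard]
  set K := FiniteField.Extension F p d with hK
  have hγ0 : (γ : K) ≠ 0 := Units.ne_zero γ
  have hpow : ∀ j : ℕ, (γ : K) ^ j = 1 ↔ q ^ (2 * d) - 1 ∣ j := by
    intro j
    rw [← Units.val_pow_eq_pow_val, Units.val_eq_one, ← hord, orderOf_dvd_iff_pow_eq_one]
  have hint : IsIntegral F (γ : K) := Algebra.IsIntegral.isIntegral _
  have htop : IntermediateField.adjoin F {(γ : K)} = ⊤ := by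
    rw [eq_top_iff]
    intro x _
    by_cases hx : x = 0
    · rw [hx]; exact zero_mem _
    · obtain ⟨k, hk⟩ := hγ (Units.mk0 x hx)
      have hx' : x = ((γ ^ k : Kˣ) : K) := by
        have := congrArg Units.val hk
        simpa using this.symm
      rw [hx']
      rcases Int.eq_nat_or_neg k with ⟨n, rfl | rfl⟩
      · rw [zpow_natCast, Units.val_pow_eq_pow_val]
        exact pow_mem (IntermediateField.mem_adjoin_simple_self F _) n
      · rw [zpow_neg, zpow_natCast, Units.val_inv_eq_inv_val, Units.val_pow_eq_pow_val]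
        exact inv_mem (pow_mem (IntermediateField.mem_adjoin_simple_self F _) n)
  have hdeg : (minpoly F (γ : K)).natDegree = d := by
    rw [← IntermediateField.adjoin.finrank hint, htop, IntermediateField.finrank_top', hfr]
  refine ⟨K, inferInstance, inferInstance, (γ : K), minpoly F (γ : K), minpoly.monic hint,
    minpoly.irreducible hint, hdeg, minpoly.coeff_zero_ne_zero hint hγ0, minpoly.aeval F _, hγ0,
    fun g hg => minpoly.dvd F _ hg, hpow, ?_⟩
  intro hdag
  -- `γ^{-q}` is a root of the minimal polynomial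
  have hroot : aeval ((γ : K) ^ q)⁻¹ (minpoly F (γ : K)) = 0 := by
    have := aeval_dag hF p (minpoly F (γ : K)) (γ : K) hγ0 (minpoly.aeval F _)
    rwa [hdag] at this
  -- hence there is an `F`-endomorphism of `K` sending `γ` to `γ^{-q}`
  have hmem : ((γ : K) ^ q)⁻¹ ∈ (minpoly F (γ : K)).aroots K := by
    rw [mem_aroots]
    exact ⟨minpoly.ne_zero hint, hroot⟩
  set ψ : ↥(IntermediateField.adjoin F {(γ : K)}) →ₐ[F] K :=
    (IntermediateField.algHomAdjoinIntegralEquiv F hint).symm ⟨_, hmem⟩ with hψ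
  have hψgen : ψ (IntermediateField.AdjoinSimple.gen F (γ : K)) = ((γ : K) ^ q)⁻¹ :=
    IntermediateField.algHomAdjoinIntegralEquiv_symm_apply_gen F hint ⟨_, hmem⟩
  set e : K ≃ₐ[F] ↥(IntermediateField.adjoin F {(γ : K)}) :=
    (IntermediateField.topEquiv (F := F) (E := K)).symm.trans
      (IntermediateField.equivOfEq htop.symm) with he
  have heγ : e (γ : K) = IntermediateField.AdjoinSimple.gen F (γ : K) := by
    apply Subtype.ext
    rfl
  obtain ⟨i, hi, hφ⟩ := algHom_eq_frob (ψ.comp e.toAlgHom)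
  have h1 := hφ (γ : K)
  rw [AlgHom.comp_apply] at h1
  have h1' : ψ (e (γ : K)) = (γ : K) ^ Fintype.card F ^ i := h1
  rw [heγ, hψgen, hF] at h1'
  -- so `γ ^ (q^(2i) + q) = 1`
  have h2 : (γ : K) ^ ((q ^ 2) ^ i + q) = 1 := by
    rw [pow_add, ← h1', inv_mul_cancel₀ (pow_ne_zero _ hγ0)]
  rw [hpow] at h2
  rw [hfr] at hi
  -- size contradiction
  have hpos : 0 < (q ^ 2) ^ i + q := by positivity
  have hle := Nat.le_of_dvd hpos h2
  have hi' : i + 1 ≤ d := hi
  have h3 : (q ^ 2) ^ i * q ^ 2 ≤ q ^ (2 * d) := by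
    rw [← pow_succ, ← pow_mul]
    exact Nat.pow_le_pow_right (by omega) (by omega)
  have h4 : 1 ≤ (q ^ 2) ^ i := Nat.one_le_pow _ _ (by positivity)
  -- `q^(2i) * q^2 - 1 ≤ q^(2i) + q`
  have h5 : (q ^ 2) ^ i * q ^ 2 ≤ (q ^ 2) ^ i + q + 1 := by omega
  by_cases hq3 : 3 ≤ q
  · have h6 : (q ^ 2) ^ i * q ^ 2 ≥ (q ^ 2) ^ i * (q + 3) + ((q ^ 2) ^ i) * 3 := by
      have : q ^ 2 ≥ q + 3 + 3 := by nlinarith
      calc (q ^ 2) ^ i * q ^ 2 ≥ (q ^ 2) ^ i * (q + 3 + 3) := Nat.mul_le_mul_left _ this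
        _ = (q ^ 2) ^ i * (q + 3) + (q ^ 2) ^ i * 3 := by ring
    nlinarith
  · have hq : q = 2 := by omega
    subst hq
    have hd2 : 2 ≤ d := by
      by_contra h
      exact hex ⟨rfl, by omega⟩
    -- `4^d - 1 ≤ 4^i + 2` with `i + 1 ≤ d`, `d ≥ 2`
    rcases Nat.eq_zero_or_pos i with h0 | h0
    · rw [h0, pow_zero] at hle
      have : (2 : ℕ) ^ (2 * 2) ≤ 2 ^ (2 * d) := Nat.pow_le_pow_right (by omega) (by omega)
      omega
    · have h7 : (4 : ℕ) ≤ (2 ^ 2) ^ i := by
        calc (4 : ℕ) = (2 ^ 2) ^ 1 := by norm_num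
          _ ≤ (2 ^ 2) ^ i := Nat.pow_le_pow_right (by norm_num) h0
      omega

end Cfsg.Agent.Lib.Helper5.U3c
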