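import Mathlib
import Cfsg.Agent.Lib.Helper5.U3c.Field
import Cfsg.Agent.Lib.Helper5.SSOrderU2
import Cfsg.Agent.Lib.Lead.CarveU3a

/-!
Package U3c of S2511: the cyclic torus of order `(q^(2d)-1)/(q+1)` in `SU_{2d}(q)`.
-/

set_option autoImplicit false

namespace Cfsg.Agent.Lib.Helper5.U3c

open Polynomial Cfsg.Agent.S0278 Cfsg.Agent.Lib.Helper5.Wall Cfsg.Agent.Lib.Helper5.SSOrder
  Cfsg.Agent.Lib.Helper5.Pal Module

universe u

variable {F : Type u} [Field F] [Fintype F] {q : ℕ}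

/-- a root of the characteristic polynomial in an extension field bounds the order -/
theorem dvd_of_pow_eq_one_of_root {K : Type*} [Field K] [Algebra F K] {n : ℕ}
    (B : Matrix (Fin n) (Fin n) F) (γ : K) (hroot : aeval γ B.charpoly = 0) {j : ℕ}
    (hj : B ^ j = 1) : γ ^ j = 1 := by
  set BK : Matrix (Fin n) (Fin n) K := B.map (algebraMap F K) with hBK
  have h1 : BK.charpoly.eval γ = 0 := by
    rw [hBK, Matrix.charpoly_map, eval_map_algebraMap]
    exact hroot
  rw [Matrix.eval_charpoly] at h1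
  obtain ⟨v, hv0, hv⟩ := Matrix.exists_mulVec_eq_zero_iff.2 h1
  have h2 : BK.mulVec v = γ • v := by
    rw [Matrix.sub_mulVec] at hv
    have h3 := sub_eq_zero.1 hv
    rw [← h3]
    ext i
    simp [Matrix.mulVec, dotProduct, Matrix.scalar_apply, Matrix.diagonal_apply, Pi.smul_apply]
  have h4 : ∀ k : ℕ, (BK ^ k).mulVec v = γ ^ k • v := by
    intro k
    induction k with
    | zero => simp
    | succ k ih =>
      rw [pow_succ, ← Matrix.mulVec_mulVec, h2, Matrix.mulVec_smul, ih, smul_smul, pow_succ,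
        mul_comm]
  have h5 : BK ^ j = 1 := by
    rw [hBK, ← Matrix.map_pow, hj, Matrix.map_one _ (map_zero _) (map_one _)]
  have h6 := h4 j
  rw [h5, Matrix.one_mulVec] at h6
  obtain ⟨i, hi⟩ : ∃ i, v i ≠ 0 := by
    by_contra hcon
    push_neg at hcon
    exact hv0 (funext hcon)
  have h7 := congrFun h6 i
  rw [Pi.smul_apply, smul_eq_mul] at h7
  have : (γ ^ j - 1) * v i = 0 := by rw [sub_mul, one_mul, ← h7, sub_self]
  rcases mul_eq_zero.1 this with h | h
  · exact sub_eq_zero.1 h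
  · exact absurd h hi

open Cfsg.Agent.Lib.Helper5.SUConj Cfsg.Agent.Lib.Helper9.CubeU Cfsg.Agent.Lib.Carve

/-- (U3c) the cyclic torus of order `(q^(2d)-1)/(q+1)` of `SU_{2d}(q)` -/
theorem exists_torus_hyp (hF : Fintype.card F = q ^ 2) {d : ℕ} (hd : 1 ≤ d) :
    ∃ s : Matrix (Fin (2 * d)) (Fin (2 * d)) F, ct hF s * s = 1 ∧ s.det = 1 ∧
      ∀ j : ℕ, s ^ j = 1 ↔ (q ^ (2 * d) - 1) / (q + 1) ∣ j := by
  classical
  by_cases hex : q = 2 ∧ d = 1
  · obtain ⟨rfl, rfl⟩ := hex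
    refine ⟨1, by rw [ct_one, Matrix.one_mul], Matrix.det_one, fun j => ?_⟩
    simp
  obtain ⟨p, hpc⟩ := CharP.exists F
  haveI : Fact p.Prime := ⟨CharP.char_is_prime F p⟩
  have hp : p.Prime := Fact.out
  obtain ⟨K, _, _, γ, m, hmon, hirr, hdeg, hm0, hroot, hγ0, hmin, hpow, hne⟩ :=
    exists_poly hF p hd hex
  obtain ⟨e, he⟩ := exists_q_eq_pow hF p
  have hq2 : 2 ≤ q := by
    by_contra h
    have hq1 : q ≤ 1 := by omega
    have : Fintype.card F ≤ 1 := by
      rw [hF]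
      calc q ^ 2 ≤ 1 ^ 2 := Nat.pow_le_pow_left hq1 2
        _ = 1 := one_pow 2
    have h1 := Fintype.one_lt_card (α := F)
    omega
  have he0 : e ≠ 0 := by
    rintro rfl
    rw [pow_zero] at he
    omega
  set N : ℕ := q ^ (2 * d) - 1 with hN
  have hqd : 4 ≤ q ^ (2 * d) := by
    calc 4 = 2 ^ 2 := by norm_num
      _ ≤ q ^ 2 := Nat.pow_le_pow_left hq2 2
      _ ≤ q ^ (2 * d) := Nat.pow_le_pow_right (by omega) (by omega)
  have hN0 : 0 < N := by omega
  have hNp : N.Coprime p := by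
    rw [Nat.coprime_comm, Nat.Prime.coprime_iff_not_dvd hp]
    intro hdvd
    have h1 : p ∣ q ^ (2 * d) := by
      rw [he, ← pow_mul]
      exact dvd_pow_self p (by positivity)
    have h2 : p ∣ q ^ (2 * d) - N := Nat.dvd_sub h1 hdvd
    have h3 : q ^ (2 * d) - N = 1 := by omega
    rw [h3] at h2
    exact hp.one_lt.ne' (Nat.dvd_one.1 h2)
  -- the polynomial `f = m * dag m`
  have hmap0 : (m.map (powQ hF)).coeff 0 ≠ 0 := by
    rw [coeff_map]
    exact fun h => hm0 ((map_eq_zero (powQ hF)).1 h)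
  have hdmon : (dag hF m).Monic := rc_monic hmap0
  have hddeg : (dag hF m).natDegree = d := by
    rw [dag, rc_natDegree hmap0, natDegree_map, hdeg]
  have hcop : IsCoprime m (dag hF m) := by
    rw [hirr.coprime_iff_not_dvd]
    intro hdvd
    exact hne (eq_of_monic_of_dvd_of_natDegree_le hmon hdmon hdvd (by rw [hdeg, hddeg]))
  have hmN : m ∣ X ^ N - 1 := by
    apply hmin
    rw [map_sub, map_pow, aeval_X, map_one, (hpow N).2 dvd_rfl, sub_self]
  have hdN : dag hF m ∣ X ^ N - 1 := by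
    obtain ⟨g, hg⟩ := hmN
    refine ⟨dag hF g, ?_⟩
    rw [← dag_mul, ← hg, dag_X_pow_sub_one hF hN0]
  have hfN : m * dag hF m ∣ X ^ N - 1 := hcop.mul_dvd hmN hdN
  have hfmon : (m * dag hF m).Monic := hmon.mul hdmon
  have hfdeg : (m * dag hF m).natDegree = 2 * d := by
    rw [hmon.natDegree_mul hdmon, hdeg, hddeg, two_mul]
  have hfdag : dag hF (m * dag hF m) = m * dag hF m := by
    rw [dag_mul, dag_dag hF hmon hm0, mul_comm]
  obtain ⟨B, hBu, hBc, hBN⟩ :=
    U3.exists_unitary_of_charpoly hF p N hN0 hNp (m * dag hF m) hfmon hfdeg hfN hfdag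
  -- the order of `B`
  have hBord : ∀ j : ℕ, B ^ j = 1 ↔ N ∣ j := by
    intro j
    constructor
    · intro hj
      rw [← hpow]
      apply dvd_of_pow_eq_one_of_root B γ _ hj
      rw [hBc, map_mul, hroot, zero_mul]
    · rintro ⟨c, rfl⟩
      rw [pow_mul, hBN, one_pow]
  have hBu' : B * ct hF B = 1 := mul_eq_one_comm.1 hBu
  have hcomm : Commute (ct hF B) B := by
    rw [Commute, SemiconjBy, hBu, hBu']
  have hq1N : q + 1 ∣ N := by
    have h1 : q ^ 2 - 1 ∣ (q ^ 2) ^ d - 1 := Nat.sub_one_dvd_pow_sub_one (q ^ 2) d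
    rw [← pow_mul] at h1
    have h2 : q + 1 ∣ q ^ 2 - 1 := ⟨q - 1, by
      have : q ^ 2 = (q + 1) * (q - 1) + 1 := by
        obtain ⟨k, rfl⟩ : ∃ k, q = k + 1 := ⟨q - 1, by omega⟩
        simp only [Nat.add_sub_cancel]
        ring
      omega⟩
    exact h2.trans h1
  refine ⟨B ^ (q + 1), ?_, ?_, fun j => ?_⟩
  · rw [ct_pow, ← hcomm.mul_pow, hBu, one_pow]
  · have h1 := congrArg Matrix.det hBu
    rw [Matrix.det_mul, Matrix.det_one, Cfsg.Agent.Lib.Helper5.SUConj.det_ct] at h1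
    rw [Matrix.det_pow, pow_succ]
    exact h1
  · rw [← pow_mul, hBord]
    obtain ⟨c, hc⟩ := hq1N
    rw [hc, Nat.mul_div_cancel_left _ (by omega : 0 < q + 1)]
    exact Nat.mul_dvd_mul_iff_left (by omega : 0 < q + 1)

end Cfsg.Agent.Lib.Helper5.U3c
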